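import Cfsg.Agent.FixOdd.Radical_m3
import Cfsg.Agent.H469.PiBS.Def
import Cfsg.Agent.H519.Bld
import Cfsg.Agent.Tits.Rigid
import Cfsg.Agent.FastGrp
import Cfsg.Agent.Prune
set_option linter.all false

section
prune_inst 0x7f00000000000000000000000000000000000000000000000000000000000000000000000000000000000000000000000000000000000000000000000000000000000000000000000000000000000000003fffffffffffffffffffffffffffbeffbdffffffff

-- part: H454/PiBS/Const
section
set_option linter.all false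
open scoped Cfsg.Agent.FastGrp

-- part: H454/PiBS/Fix
section
/-!
# S3876 (TEAM PIBS), Lie type, own characteristic: the chambers fixed by the unipotent radical of a residue

`mem_Res_of_fix` : a chamber fixed by `UR (Res J x)` lies in `Res J x`.
-/

set_option autoImplicit false
set_option linter.unusedSectionVars false

open scoped Pointwise

namespace Cfsg.Agent.H454.PiBS

open Cfsg.Agent.Tits.Core Cfsg.Agent.Tits.Core.Bldg Cfsg.Agent.Tits.Exchange Cfsg.Agent.Tits
open Cfsg.Agent.FixBN (Sys)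

variable {I : Type*} {M : CoxeterMatrix I} {W : Type*} [Group W] {cs : CoxeterSystem M W} {C : Type*}

local prefix:100 "ℓ" => cs.length

variable {Δ : Bldg cs C}

/-- a chamber opposite `x`, with prescribed projections to `Res J x` and to the `i`-panel of `x`, `i ∉ J` -/
theorem exists_opp_proj [F : OppRes.Cox cs] {J : Set I} {i : I} (hi : i ∉ J) {x x' x₁ : C}
    (hx' : Δ.δ x x' = wJ cs J) (hx₁ : Δ.δ x x₁ = cs.simple i) :
    ∃ y, Δ.Opp x y ∧ Δ.δ x' y = wJ cs J * w0 cs ∧ Δ.δ x₁ y = cs.simple i * w0 cs := by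
  obtain ⟨a, ha⟩ : ∃ a, a = wJ cs J := ⟨_, rfl⟩
  obtain ⟨w, hw⟩ : ∃ w, w = w0 cs := ⟨_, rfl⟩
  have haa : a * a = 1 := by rw [ha]; exact F.wJ_mul_self J
  have hww : w * w = 1 := by rw [hw]; exact F.w0_mul_self
  have hss : cs.simple i * cs.simple i = 1 := cs.simple_mul_simple_self i
  have hlw : ∀ v, ℓ (v * w) + ℓ v = ℓ w := fun v => by rw [hw]; exact F.len_mul_w0 v
  have hlc : ∀ v, ℓ (w * v * w) = ℓ v := fun v => by rw [hw]; exact F.len_conj_w0 v
  rw [← ha] at hx'
  rw [← ha, ← hw]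
  have h1 : ℓ (a * cs.simple i) = ℓ a + 1 := by
    rcases cs.length_mul_simple a i with h | h
    · exact h
    · exfalso
      apply hi
      refine F.descent_mem J a (by rw [ha]; exact F.wJ_mem J) i ?_
      omega
  have h2 : ℓ (cs.simple i * a) = ℓ a + 1 := by
    rw [← h1, ← cs.length_inv (a * cs.simple i), mul_inv_rev, cs.inv_simple, ha, F.wJ_inv]
  have h3 := hlw (cs.simple i * a)
  have h4 := hlw a
  have h5 := hlw (cs.simple i)
  rw [cs.length_simple] at h5
  have h6 := hlc a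
  have hx'x : Δ.δ x' x = a := by rw [Δ.symm x x', hx', ha, F.wJ_inv]
  have hx'x₁ : Δ.δ x' x₁ = a * cs.simple i := by
    rw [← hx'x]
    refine Δ.step_lt x' x x₁ i hx₁ ?_
    rw [hx'x, h1]
    omega
  obtain ⟨y₁, hy₁⟩ := Δ.exists_δ x₁ (cs.simple i * a * w)
  have hx'y₁ : Δ.δ x' y₁ = a * w * (w * a * w) := by
    rw [Δ.δ_mul_of hx'x₁ hy₁]
    · calc a * cs.simple i * (cs.simple i * a * w) = a * (cs.simple i * cs.simple i) * a * w := by group
        _ = a * w * (w * a * w) := by
          rw [hss, mul_one, haa, one_mul]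
          calc w = (a * a) * w := by rw [haa, one_mul]
            _ = a * (w * w) * a * w := by rw [hww, mul_one]
            _ = _ := by group
    · have e : a * cs.simple i * (cs.simple i * a * w) = w := by
        calc a * cs.simple i * (cs.simple i * a * w) = a * (cs.simple i * cs.simple i) * a * w := by group
          _ = w := by rw [hss, mul_one, haa, one_mul]
      rw [e]
      omega
  have hxy₁ : Δ.δ x y₁ = a * w := by
    rw [Δ.δ_mul_of hx₁ hy₁]
    · calc cs.simple i * (cs.simple i * a * w) = (cs.simple i * cs.simple i) * (a * w) := by group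
        _ = _ := by rw [hss, one_mul]
    · have e : cs.simple i * (cs.simple i * a * w) = a * w := by
        calc cs.simple i * (cs.simple i * a * w) = (cs.simple i * cs.simple i) * (a * w) := by group
          _ = _ := by rw [hss, one_mul]
      rw [e, cs.length_simple]
      omega
  have e1 : a * w * (w * a * w) = w := by
    calc a * w * (w * a * w) = a * (w * w) * a * w := by group
      _ = w := by rw [hww, mul_one, haa, one_mul]
  obtain ⟨y, hy, hyy₁⟩ := Δ.exists_between hx'y₁ (by rw [e1]; omega)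
  have hy₁y : Δ.δ y₁ y = w * a * w := by
    rw [Δ.symm y y₁, hyy₁]
    have ea : a⁻¹ = a := inv_eq_of_mul_eq_one_left haa
    have ew : w⁻¹ = w := inv_eq_of_mul_eq_one_left hww
    rw [mul_inv_rev, mul_inv_rev, ea, ew, mul_assoc]
  refine ⟨y, ?_, hy, ?_⟩
  · show Δ.δ x y = w0 cs
    rw [← hw, Δ.δ_mul_of hxy₁ hy₁y (by rw [e1]; omega), e1]
  · have e2 : cs.simple i * a * w * (w * a * w) = cs.simple i * w := by
      calc cs.simple i * a * w * (w * a * w) = cs.simple i * a * (w * w) * a * w := by group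
        _ = cs.simple i * (a * a) * w := by rw [hww]; group
        _ = _ := by rw [haa, mul_one]
    rw [Δ.δ_mul_of hy₁ hy₁y (by rw [e2]; omega), e2]

variable {G : Type*} [Group G] [MulAction G C] {p : ℕ} (S : Sys Δ G p) [F : OppRes.Cox cs]

include S

/-- the radical of `Res J x` moves the chambers of the `i`-panel of `x`, `i ∉ J` -/
theorem exists_UR_move (hth : Δ.Thick) {J : Set I} {i : I} (hi : i ∉ J) {x x₁ x₂ : C}
    (hx₁ : Δ.δ x x₁ = cs.simple i) (hx₂ : Δ.δ x x₂ = cs.simple i) :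
    ∃ u ∈ S.UR (Δ.Res J x), u • x₁ = x₂ := by
  obtain ⟨x', hx'⟩ := Δ.exists_δ x (wJ cs J)
  obtain ⟨y, hy, hy', hy₁⟩ := exists_opp_proj hi hx' hx₁
  obtain ⟨z, hz, hz', hz₂⟩ := exists_opp_proj hi hx' hx₂
  obtain ⟨u, hu, huy⟩ := S.trans x y z hy hz
  have hux := S.fix x u hu
  have h4 := F.len_mul_w0 (wJ cs J)
  have h5 := F.len_mul_w0 (cs.simple i)
  rw [cs.length_simple] at h5
  have e1 : wJ cs J * (wJ cs J * w0 cs) = w0 cs := by rw [← mul_assoc, F.wJ_mul_self, one_mul]
  have e2 : cs.simple i * (cs.simple i * w0 cs) = w0 cs := by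
    rw [← mul_assoc, cs.simple_mul_simple_self, one_mul]
  have hux' : u • x' = x' := by
    refine Δ.between_unique (x := x) (z := z) (v := wJ cs J) (w := wJ cs J * w0 cs) (by rw [e1]; omega) ?_ ?_ hx' hz'
    · rw [← hx', ← S.iso u x x', hux]
    · rw [← hy', ← S.iso u x' y, huy]
  have hux₁ : u • x₁ = x₂ := by
    refine Δ.between_unique (x := x) (z := z) (v := cs.simple i) (w := cs.simple i * w0 cs)
      (by rw [e2, cs.length_simple]; omega) ?_ ?_ hx₂ hz₂
    · rw [← hx₁, ← S.iso u x x₁, hux]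
    · rw [← hy₁, ← S.iso u x₁ y, huy]
  exact ⟨u, S.mem_UR_of_fix hth hu hx' hux', hux₁⟩

/-- **A chamber fixed by the unipotent radical of a residue lies in the residue.** -/
theorem mem_Res_of_fix (hth : Δ.Thick) {J : Set I} {x z : C} (h : ∀ u ∈ S.UR (Δ.Res J x), u • z = z) :
    z ∈ Δ.Res J x := by
  -- the projection of `z`
  obtain ⟨b, hb, v, hvb, hv⟩ := exists_isMinL cs J (Δ.δ x z)
  obtain ⟨x', hx', hx'z⟩ := Δ.exists_between hvb (hv b hb)
  have hmem : x' ∈ Δ.Res J x := by rw [mem_Res, hx']; exact hb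
  have hRes : Δ.Res J x' = Δ.Res J x := Δ.Res_eq_of_mem hmem
  by_cases hv1 : v = 1
  · rw [hv1] at hx'z
    rw [← Δ.eq_of_δ_eq_one hx'z]
    exact hmem
  exfalso
  obtain ⟨i, hi⟩ := cs.exists_leftDescent_of_ne_one hv1
  have hi' : ℓ (cs.simple i * v) < ℓ v := hi
  have hiJ : i ∉ J := by
    intro hij
    have := (isMinL_iff cs).1 hv i hij
    omega
  obtain ⟨x₁, hx₁, hx₁z⟩ := FixBN.exists_first Δ (x := x') (y := z) (i := i) (by rw [hx'z]; exact hi')
  have hfix : ∀ u ∈ S.UR (Δ.Res J x), u • x₁ = x₁ := by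
    intro u hu
    refine S.conv_fix (S.UR (Δ.Res J x)) x' (fun v hv => S.fix x' v (hv x' hmem)) z h x₁ i hx₁ hx₁z ?_ u hu
    rw [hx'z]; exact hi'
  obtain ⟨x₂, e, hne, hx₂, he⟩ := hth x' i
  obtain ⟨u, hu, hux⟩ := exists_UR_move S hth hiJ hx₁ hx₂
  obtain ⟨u', hu', hux'⟩ := exists_UR_move S hth hiJ hx₁ he
  rw [hRes] at hu hu'
  rw [hfix u hu] at hux
  rw [hfix u' hu'] at hux'
  exact hne (hux.symm.trans hux')

/-- the chamber is determined by its group -/
theorem eq_of_U_le (hth : Δ.Thick) {x z : C} (h : S.U x ≤ S.U z) : x = z := by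
  have h1 : z ∈ Δ.Res ∅ x := by
    refine mem_Res_of_fix S hth fun u hu => S.fix z u (h (hu x ?_))
    rw [Δ.Res_empty]; rfl
  rw [Δ.Res_empty] at h1
  exact h1.symm

end Cfsg.Agent.H454.PiBS
end

-- part: H454/PiBS/Core
section
/-!
# S3876 (TEAM PIBS), Lie type, own characteristic `p ∈ π`: Hall subgroups and their types

`G` acts on the building `Δ` with the system `S : Sys Δ G p`, `p ∈ π`, every π-subgroup lies in a Hall π-subgroup.
* `exists_U_le` : a Hall π-subgroup contains some `U z`, and every `p`-subgroup of it lies in such a `U z`;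
* `exists_hall_of_res` : a π-group `Y` stabilising a residue lies in a Hall π-subgroup which contains `U z` for a chamber `z`
  of this residue;
* `Ty Δ H x` : the type of `H` (if `U x ≤ H`): the `s` such that some `h ∈ H` maps `x` to an `s`-adjacent chamber;
* `Res_subset_orbit`, `U_le_of_univ`, `Ty_eq`, `Ty_map`.
-/

set_option autoImplicit false
set_option linter.unusedSectionVars false

open scoped Pointwise

namespace Cfsg.Agent.H454.PiBS

open Cfsg Subgroup Cfsg.Agent.Tits.Core Cfsg.Agent.Tits.Core.Bldg Cfsg.Agent.Tits.Exchange Cfsg.Agent.Tits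
open Cfsg.Agent.FixBN (Sys)
open Cfsg.Agent.FixOdd (Tw)

section pi

variable {π : Set ℕ} {G : Type*} [Group G]

theorem pi_of_pGroup [Finite G] {p : ℕ} [hp : Fact p.Prime] (hpi : p ∈ π) {P : Subgroup G} (hP : IsPGroup p P) :
    IsPiSubgroup π P := by
  obtain ⟨n, hn⟩ := IsPGroup.iff_card.1 hP
  intro q hq hd
  rw [hn] at hd
  rwa [(Nat.prime_dvd_prime_iff_eq hq hp.out).1 (hq.dvd_of_dvd_pow hd)]

theorem pi_sup [Finite G] {P Y : Subgroup G} (hPY : P ≤ normalizer (Y : Set G)) (hP : IsPiSubgroup π P)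
    (hY : IsPiSubgroup π Y) : IsPiSubgroup π (P ⊔ Y) := by
  set M := P ⊔ Y with hM
  have hYM : Y ≤ M := le_sup_right
  have hn : (Y.subgroupOf M).Normal :=
    (normal_subgroupOf_iff_le_normalizer hYM).mpr (sup_le hPY le_normalizer)
  have h1 : P.subgroupOf M ⊔ Y.subgroupOf M = ⊤ := by
    rw [← Subgroup.subgroupOf_sup le_sup_left hYM]
    exact Subgroup.subgroupOf_self _
  have h2 := relIndex_sup_right (P.subgroupOf M) (Y.subgroupOf M)
  rw [h1, relIndex_top_right] at h2
  have h3 : Nat.card M = Nat.card Y * (Y.subgroupOf M).index := by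
    rw [← Nat.card_congr (subgroupOfEquivOfLe hYM).toEquiv, card_mul_index]
  intro q hq hd
  rw [h3, h2] at hd
  rcases (hq.dvd_mul).1 hd with h4 | h4
  · exact hY q hq h4
  · refine hP q hq (h4.trans ?_)
    refine (Subgroup.relIndex_dvd_card _ _).trans ?_
    rw [Nat.card_congr (subgroupOfEquivOfLe (show P ≤ M from le_sup_left)).toEquiv]

end pi

variable {I : Type*} {M : CoxeterMatrix I} {W : Type*} [Group W] {cs : CoxeterSystem M W} {C : Type*}

local prefix:100 "ℓ" => cs.length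

variable {Δ : Bldg cs C} {G : Type*} [Group G] [MulAction G C] {p : ℕ}

/-- the type of a subgroup `H` with respect to the chamber `x` -/
def Ty (Δ : Bldg cs C) {G : Type*} [Group G] [MulAction G C] (H : Subgroup G) (x : C) : Set I :=
  {s | ∃ h ∈ H, Δ.δ x (h • x) = cs.simple s}

variable (S : Sys Δ G p) [F : OppRes.Cox cs]

section hall

variable {π : Set ℕ} [Finite G] [hp : Fact p.Prime]

omit F in
/-- a `p`-subgroup of a Hall π-subgroup `H` lies in some `U z ≤ H` -/
theorem exists_U_le {H : Subgroup G} (hH : IsPiHall π H) (hpi : p ∈ π) {V : Subgroup G} (hV : IsPGroup p V)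
    (hVH : V ≤ H) : ∃ (z : C) (P : Sylow p H), V ≤ S.U z ∧ S.U z = (P : Subgroup H).map H.subtype := by
  have h1 : IsPGroup p (V.subgroupOf H) := hV.comap_subtype
  obtain ⟨P, hP⟩ := h1.exists_le_sylow
  set P' := (P : Subgroup H).map H.subtype with hP'
  have hPp : IsPGroup p P' := P.2.map _
  obtain ⟨z, hz⟩ := S.exists_fix P' hPp
  have hle : P' ≤ S.U z := S.max z P' hPp hz
  have hVP : V ≤ P' := by
    intro v hv
    exact ⟨⟨v, hVH hv⟩, hP (mem_subgroupOf.2 hv), rfl⟩
  refine ⟨z, P, hVP.trans hle, (Subgroup.eq_of_le_of_card_ge hle ?_).symm⟩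
  obtain ⟨n, hn⟩ := IsPGroup.iff_card.1 (S.isP z)
  have hd : p ^ n ∣ Nat.card H := by
    have h2 : p ^ n ∣ Nat.card H * H.index := by
      rw [H.card_mul_index, ← hn]
      exact Subgroup.card_subgroup_dvd_card _
    exact (Nat.Coprime.pow_left n ((Nat.Prime.coprime_iff_not_dvd hp.out).2 (hH.2 p hp.out hpi))).dvd_of_dvd_mul_right h2
  rw [hn, hP', Subgroup.card_map_of_injective (f := H.subtype) H.subtype_injective, P.card_eq_multiplicity]
  exact Nat.pow_le_pow_right hp.out.pos ((hp.out.pow_dvd_iff_le_factorization Nat.card_pos.ne').1 hd)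

/-- **A π-group stabilising a residue lies in a Hall π-subgroup containing `U z`, `z` in the residue.** -/
theorem exists_hall_of_res (hth : Δ.Thick)
    (hdom : ∀ K : Subgroup G, IsPiSubgroup π K → ∃ H : Subgroup G, IsPiHall π H ∧ K ≤ H) (hpi : p ∈ π)
    {J : Set I} {x : C} {Y : Subgroup G} (hY : IsPiSubgroup π Y) (hst : ∀ g ∈ Y, g • Δ.Res J x = Δ.Res J x) :
    ∃ H : Subgroup G, IsPiHall π H ∧ Y ≤ H ∧ ∃ z ∈ Δ.Res J x, S.U z ≤ H := by
  have hVp : IsPGroup p (S.UR (Δ.Res J x)) := S.UR_isP ⟨x, Δ.self_mem_Res J x⟩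
  have hnor : Y ≤ normalizer (S.UR (Δ.Res J x) : Set G) := by
    intro g hg
    rw [mem_normalizer_iff]
    intro u
    have h1 := S.conj_mem_UR_iff (Q := Δ.Res J x) (u := u) (g := g)
    rw [hst g hg] at h1
    exact h1.symm
  obtain ⟨H, hH, hle⟩ := hdom _ (pi_sup hnor hY (pi_of_pGroup hpi hVp))
  obtain ⟨z, P, hz, hz'⟩ := exists_U_le S hH hpi hVp (le_sup_right.trans hle)
  refine ⟨H, hH, le_sup_left.trans hle, z, mem_Res_of_fix S hth fun u hu => S.fix z u (hz hu), ?_⟩
  rw [hz']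
  exact Subgroup.map_subtype_le _

end hall

/-- `H` is transitive on the residue of its type -/
theorem exists_smul_of_mem_Res {H : Subgroup G} {x : C} (hx : S.U x ≤ H) {y : C} (hy : y ∈ Δ.Res (Ty Δ H x) x) :
    ∃ h ∈ H, h • x = y := by
  refine Δ.Res_induction (J := Ty Δ H x) (p := fun y => ∃ h ∈ H, h • x = y) ⟨1, one_mem _, one_smul _ _⟩ ?_ hy
  rintro y - z i ⟨k, hk, hki⟩ hyz ⟨h, hh, rfl⟩
  have h1 : Δ.δ x (h⁻¹ • z) = cs.simple i := by
    rw [← hyz, ← S.iso h, smul_inv_smul]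
  obtain ⟨u, hu, huz⟩ := S.exists_move (hki.trans h1.symm)
  refine ⟨h * u * k, mul_mem (mul_mem hh (hx hu)) hk, ?_⟩
  rw [mul_smul, mul_smul, huz, smul_inv_smul]

/-- if `H` has type `I` then it contains all the groups `U y` -/
theorem U_le_of_univ {H : Subgroup G} {x : C} (hx : S.U x ≤ H) (hT : Ty Δ H x = Set.univ) (y : C) : S.U y ≤ H := by
  obtain ⟨h, hh, rfl⟩ := exists_smul_of_mem_Res S hx (y := y) (by rw [hT, Δ.Res_univ]; trivial)
  intro u hu
  have h1 := S.conj_mem_U hu h⁻¹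
  rw [inv_smul_smul] at h1
  have h2 := mul_mem (mul_mem hh (hx h1)) (inv_mem hh)
  have h3 : h * (h⁻¹ * u * h⁻¹⁻¹) * h⁻¹ = u := by group
  rwa [h3] at h2

omit F in
include S in
theorem Ty_smul {H : Subgroup G} {x : C} {h : G} (hh : h ∈ H) : Ty Δ H (h • x) = Ty Δ H x := by
  have key : ∀ {h : G}, h ∈ H → ∀ {x : C}, Ty Δ H x ⊆ Ty Δ H (h • x) := by
    rintro h hh x s ⟨k, hk, hks⟩
    refine ⟨h * k * h⁻¹, mul_mem (mul_mem hh hk) (inv_mem hh), ?_⟩
    rw [mul_smul, inv_smul_smul, mul_smul, S.iso, hks]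
  refine Set.Subset.antisymm ?_ (key hh)
  have h1 := key (inv_mem hh) (x := h • x)
  rwa [inv_smul_smul] at h1

/-- **the type of a Hall π-subgroup does not depend on the chamber** -/
theorem Ty_eq [Finite G] [hp : Fact p.Prime] (hth : Δ.Thick) {π : Set ℕ} (hpi : p ∈ π) {H : Subgroup G}
    (hH : IsPiHall π H) {x z : C} (hx : S.U x ≤ H) (hz : S.U z ≤ H) : Ty Δ H x = Ty Δ H z := by
  obtain ⟨x', P, hx1, hx2⟩ := exists_U_le S hH hpi (S.isP x) hx
  obtain ⟨z', Q, hz1, hz2⟩ := exists_U_le S hH hpi (S.isP z) hz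
  obtain rfl := eq_of_U_le S hth hx1
  obtain rfl := eq_of_U_le S hth hz1
  obtain ⟨h, hh⟩ := MulAction.exists_smul_eq H P Q
  have h1 : S.U z ≤ S.U ((h : G) • x) := by
    intro u hu
    rw [hz2, ← hh] at hu
    obtain ⟨v, hv, rfl⟩ := hu
    have hv' : v ∈ ((h • P : Sylow p H) : Subgroup H) := hv
    rw [Sylow.coe_subgroup_smul] at hv'
    rw [Subgroup.mem_pointwise_smul_iff_inv_smul_mem] at hv'
    have h3 : ((h⁻¹ * v * h : H) : G) ∈ S.U x := by
      rw [hx2]
      refine ⟨h⁻¹ * v * h, ?_, rfl⟩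
      have h4 : (MulAut.conj h)⁻¹ • v = h⁻¹ * v * h := by
        rw [← map_inv, MulAut.smul_def, MulAut.conj_apply, inv_inv]
      rwa [h4] at hv'
    have h5 := S.conj_mem_U h3 (h : G)
    have h6 : (h : G) * ((h⁻¹ * v * h : H) : G) * (h : G)⁻¹ = (v : G) := by
      push_cast
      group
    rwa [h6] at h5
  rw [eq_of_U_le S hth h1, Ty_smul S h.2]

omit F in
/-- the type of the image under an automorphism -/
theorem Ty_map (t : Tw Δ G) (H : Subgroup G) (x : C) :
    Ty Δ (H.map t.τ.toMonoidHom) (t.θ x) = t.σ '' Ty Δ H x := by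
  ext s
  constructor
  · rintro ⟨_, ⟨h, hh, rfl⟩, hs⟩
    have h1 : Δ.δ (t.θ x) (t.τ h • t.θ x) = cs.simple s := hs
    rw [← t.θ_smul, t.δ_θ] at h1
    refine ⟨t.σ.symm s, ⟨h, hh, ?_⟩, t.σ.apply_symm_apply s⟩
    apply t.φ.injective
    rw [h1, t.φ_simple, t.σ.apply_symm_apply]
  · rintro ⟨s, ⟨h, hh, hs⟩, rfl⟩
    refine ⟨t.τ h, ⟨h, hh, rfl⟩, ?_⟩
    rw [← t.θ_smul, t.δ_θ, hs, t.φ_simple]

omit F in
theorem U_map_le (t : Tw Δ G) {H : Subgroup G} {x : C} (hx : S.U x ≤ H) :
    S.U (t.θ x) ≤ H.map t.τ.toMonoidHom := by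
  -- `θ` is a bijection and `τ⁻¹` maps `U (θ x)` into the stabiliser of `x`
  have h1 : (S.U (t.θ x)).map t.τ.symm.toMonoidHom ≤ S.U x := by
    apply S.max _ _ ((S.isP _).map _)
    rintro _ ⟨v, hv, rfl⟩
    change t.τ.symm v • x = x
    apply t.θ.injective
    rw [t.θ_smul, MulEquiv.apply_symm_apply, S.fix _ v hv]
  intro u hu
  exact ⟨t.τ.symm u, hx (h1 ⟨u, hu, rfl⟩), t.τ.apply_symm_apply u⟩

end Cfsg.Agent.H454.PiBS
end

-- part: H454/PiBS/Const
section
/-!
# S3876 (TEAM PIBS), Lie type, own characteristic `p ∈ π`: all Hall π-subgroups have the same type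

`const` : if the primes dividing the order of the automorphism group of the Coxeter matrix lie in `π` then all Hall
π-subgroups have the same type.
-/

set_option autoImplicit false
set_option linter.unusedSectionVars false

open scoped Pointwise

namespace Cfsg.Agent.H454.PiBS

open Cfsg Subgroup Cfsg.Agent.Tits.Core Cfsg.Agent.Tits.Core.Bldg Cfsg.Agent.Tits.Exchange Cfsg.Agent.Tits
open Cfsg.Agent.FixBN (Sys)
open Cfsg.Agent.FixOdd (Tw)
open Cfsg.Agent.H469.PiBS

/-- counting the values of an equivariant function on a transitive set -/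
theorem card_range_dvd {Hs X D : Type*} [Finite Hs] [Nonempty Hs] [Group D] [Finite D] [MulAction D X] (T : Hs → X)
    (htr : ∀ H H' : Hs, ∃ (f : Hs ≃ Hs) (σ : D), f H = H' ∧ ∀ K, T (f K) = σ • T K) :
    Nat.card (Set.range T) ∣ Nat.card Hs ∧ Nat.card (Set.range T) ∣ Nat.card D := by
  classical
  obtain ⟨H₁⟩ : Nonempty Hs := inferInstance
  constructor
  · have hfib : ∀ y : Set.range T, Nat.card {K // Set.rangeFactorization T K = y} =
        Nat.card {K // T K = T H₁} := by
      rintro ⟨_, H₂, rfl⟩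
      obtain ⟨f, σ, hf, hσ⟩ := htr H₁ H₂
      symm
      refine Nat.card_congr (f.subtypeEquiv fun K => ?_)
      rw [← Subtype.coe_inj]
      show T K = T H₁ ↔ T (f K) = T H₂
      rw [← hf, hσ, hσ]
      exact (smul_left_cancel_iff σ).symm
    have : Fintype (Set.range T) := Fintype.ofFinite _
    rw [Nat.card_congr (Equiv.sigmaFiberEquiv (Set.rangeFactorization T)).symm, Nat.card_sigma,
      Finset.sum_congr rfl (fun y _ => hfib y), Finset.sum_const, Finset.card_univ, smul_eq_mul,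
      ← Nat.card_eq_fintype_card]
    exact dvd_mul_right _ _
  · set E : Subgroup D := MulAction.stabilizer D (Set.range T) with hE
    have hmem : ∀ {f : Hs ≃ Hs} {σ : D}, (∀ K, T (f K) = σ • T K) → σ ∈ E := by
      intro f σ hσ
      rw [hE, MulAction.mem_stabilizer_iff]
      ext y
      constructor
      · rintro ⟨_, ⟨K, rfl⟩, rfl⟩
        exact ⟨f K, hσ K⟩
      · rintro ⟨K, rfl⟩
        refine ⟨T (f.symm K), ⟨_, rfl⟩, ?_⟩
        show σ • T (f.symm K) = T K
        rw [← hσ, f.apply_symm_apply]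
    have horb : (MulAction.orbit E (T H₁)) = Set.range T := by
      ext y
      constructor
      · rintro ⟨⟨σ, hσ⟩, rfl⟩
        rw [hE, MulAction.mem_stabilizer_iff] at hσ
        show σ • T H₁ ∈ Set.range T
        rw [← hσ]
        exact Set.smul_mem_smul_set ⟨H₁, rfl⟩
      · rintro ⟨K, rfl⟩
        obtain ⟨f, σ, hf, hσ⟩ := htr H₁ K
        refine ⟨⟨σ, hmem hσ⟩, ?_⟩
        show σ • T H₁ = T K
        rw [← hσ, hf]
    rw [← horb]
    refine Dvd.dvd.trans ?_ (Subgroup.card_subgroup_dvd_card E)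
    rw [Nat.card_congr (MulAction.orbitEquivQuotientStabilizer E (T H₁))]
    exact Subgroup.card_quotient_dvd_card _

variable {I : Type*} {M : CoxeterMatrix I} {W : Type*} [Group W] {cs : CoxeterSystem M W} {C : Type*}

/-- the automorphisms of the Coxeter matrix -/
def autM {I : Type*} (M : CoxeterMatrix I) : Subgroup (Equiv.Perm I) where
  carrier := {σ | ∀ i j, M (σ i) (σ j) = M i j}
  one_mem' := fun _ _ => rfl
  mul_mem' := fun {a b} ha hb i j => (ha (b i) (b j)).trans (hb i j)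
  inv_mem' := fun {a} ha i j => by
    have h := ha (a.symm i) (a.symm j)
    rw [Equiv.apply_symm_apply, Equiv.apply_symm_apply] at h
    exact h.symm

variable {Δ : Bldg cs C} {G : Type*} [Group G] [MulAction G C] {p : ℕ}

/-- the permutation of the types is an automorphism of the Coxeter matrix -/
theorem tw_mem_autM [Finite I] [Finite W] (t : Tw Δ G) : t.σ ∈ autM M := by
  classical
  have : Fintype I := Fintype.ofFinite I
  intro i j
  have h1 := LieRecognition.CoxForm.orderOf_eq cs i j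
  have h2 := LieRecognition.CoxForm.orderOf_eq cs (t.σ i) (t.σ j)
  rw [← h1, ← h2, ← t.φ_simple, ← t.φ_simple, ← map_mul]
  exact MulEquiv.orderOf_eq t.φ _

variable (S : Sys Δ G p)

/-- the set of the types of the Hall π-subgroups -/
def TySet (S : Sys Δ G p) (π : Set ℕ) : Set (Set I) :=
  {J | ∃ H : Subgroup G, IsPiHall π H ∧ ∃ z : C, S.U z ≤ H ∧ Ty Δ H z = J}

theorem Ty_mem_TySet {π : Set ℕ} {H : Subgroup G} (hH : IsPiHall π H) {z : C} (hz : S.U z ≤ H) :
    Ty Δ H z ∈ TySet S π := ⟨H, hH, z, hz, rfl⟩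

/-- the set of types is stable under the automorphisms -/
theorem image_mem_TySet [Finite G] {π : Set ℕ} (t : Tw Δ G) {J : Set I} (hJ : J ∈ TySet S π) :
    t.σ '' J ∈ TySet S π := by
  obtain ⟨H, hH, z, hz, rfl⟩ := hJ
  exact ⟨H.map t.τ.toMonoidHom, isPiHall_map t.τ hH, t.θ z, U_map_le S t hz, Ty_map t H z⟩

variable [F : OppRes.Cox cs]

section TS

variable [Finite I] [Finite W] [Finite G] [hp : Fact p.Prime] (hth : Δ.Thick) {π : Set ℕ} (hpi : p ∈ π)
  {A : Subgroup (MulAut G)} {x : MulAut G} {l : ℕ} (h : Hyp π A x l)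

include hth hpi h

end TS

end Cfsg.Agent.H454.PiBS
end
end

-- part: H454/PiBS/Panel
section
set_option linter.all false
open scoped Cfsg.Agent.FastGrp

/-!
# S3876 (TEAM PIBS), Lie type, own characteristic `p ∈ π`: which types occur

* `Res_pan`, `mem_Ty_of_not_fix`, `exists_type` : a π-group `Y` stabilising a panel of type `i` and fixing no chamber of it gives
  a Hall π-subgroup whose type contains `i`; `exists_fix_of_not_type` is the converse form;
* `exists_type_of_dvd` : a prime `r ∈ π` dividing the number of chambers of an `i`-panel does;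
* `exists_type_odd` : `p` odd and `2 ∈ π`: every `i` lies in the type of some Hall π-subgroup;
* `eq_top` : a subgroup of type `I` containing `U x` is the whole group;
* `top_of_odd` : `p` odd, `2 ∈ π` and all the primes dividing `|Aut M|` lie in `π`: then `G` is a π-group.
-/

set_option autoImplicit false
set_option linter.unusedSectionVars false

open scoped Pointwise

namespace Cfsg.Agent.H454.PiBS

open Cfsg Subgroup Cfsg.Agent.Tits.Core Cfsg.Agent.Tits.Core.Bldg Cfsg.Agent.Tits.Exchange Cfsg.Agent.Tits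
open Cfsg.Agent.FixBN (Sys)
open Cfsg.Agent.FixOdd (Tw)
open Cfsg.Agent.H469.PiBS

variable {I : Type*} {M : CoxeterMatrix I} {W : Type*} [Group W] {cs : CoxeterSystem M W} {C : Type*}

variable {Δ : Bldg cs C}

theorem mem_Res_single {i : I} {x y : C} : y ∈ Δ.Res {i} x ↔ y = x ∨ Δ.δ x y = cs.simple i := by
  rw [← Δ.Pan_eq_Res]
  rfl

variable {G : Type*} [Group G] [MulAction G C] {p : ℕ} (S : Sys Δ G p)

/-- two different chambers of an `i`-panel, one moved to the other by `H`: the type contains `i` -/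
theorem mem_Ty_of_not_fix {H : Subgroup G} {i : I} {x z : C} (hz : z ∈ Δ.Res {i} x) {g : G} (hg : g ∈ H)
    (hgz : g • z ∈ Δ.Res {i} x) (hne : g • z ≠ z) : i ∈ Ty Δ H z := by
  have h1 : g • z ∈ Δ.Res {i} z := by rwa [Δ.Res_eq_of_mem hz]
  rcases mem_Res_single.1 h1 with h | h
  · exact absurd h hne
  · exact ⟨g, hg, h⟩

variable [F : OppRes.Cox cs]

section hall

variable {π : Set ℕ} [Finite G] [hp : Fact p.Prime]

/-- **(b)** a π-group stabilising a panel of type `i` and fixing no chamber of it -/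
theorem exists_type (hth : Δ.Thick)
    (hdom : ∀ K : Subgroup G, IsPiSubgroup π K → ∃ H : Subgroup G, IsPiHall π H ∧ K ≤ H) (hpi : p ∈ π)
    {i : I} {x : C} {Y : Subgroup G} (hY : IsPiSubgroup π Y) (hst : ∀ g ∈ Y, g • Δ.Res {i} x = Δ.Res {i} x)
    (hnf : ∀ z ∈ Δ.Res {i} x, ∃ g ∈ Y, g • z ≠ z) :
    ∃ H : Subgroup G, IsPiHall π H ∧ Y ≤ H ∧ ∃ z ∈ Δ.Res {i} x, S.U z ≤ H ∧ i ∈ Ty Δ H z := by
  obtain ⟨H, hH, hYH, z, hz, hU⟩ := exists_hall_of_res S hth hdom hpi hY hst
  obtain ⟨g, hg, hne⟩ := hnf z hz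
  refine ⟨H, hH, hYH, z, hz, hU, mem_Ty_of_not_fix hz (hYH hg) ?_ hne⟩
  rw [← hst g hg]
  exact Set.smul_mem_smul_set hz

/-- **(c)** if `i` is in no type, every π-group stabilising a panel of type `i` fixes a chamber of it -/
theorem exists_fix_of_not_type (hth : Δ.Thick)
    (hdom : ∀ K : Subgroup G, IsPiSubgroup π K → ∃ H : Subgroup G, IsPiHall π H ∧ K ≤ H) (hpi : p ∈ π)
    {i : I} (hi : ∀ J ∈ TySet S π, i ∉ J) {x : C} {Y : Subgroup G} (hY : IsPiSubgroup π Y)
    (hst : ∀ g ∈ Y, g • Δ.Res {i} x = Δ.Res {i} x) : ∃ z ∈ Δ.Res {i} x, ∀ g ∈ Y, g • z = z := by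
  by_contra hcon
  push Not at hcon
  obtain ⟨H, hH, -, z, -, hU, hiT⟩ := exists_type S hth hdom hpi hY hst hcon
  exact hi _ (Ty_mem_TySet S hH hU) hiT

include S in
/-- the stabiliser of a panel is transitive on it -/
theorem orbit_panel (hth : Δ.Thick) (i : I) (x : C) :
    MulAction.orbit (MulAction.stabilizer G (Δ.Res {i} x)) x = Δ.Res {i} x := by
  have hst : ∀ {y : C}, y ∈ Δ.Res {i} x → ∀ u ∈ S.U y, u ∈ MulAction.stabilizer G (Δ.Res {i} x) := by
    intro y hy u hu
    rw [MulAction.mem_stabilizer_iff, ← Δ.Res_eq_of_mem hy, S.smul_Res, S.fix y u hu]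
  ext y
  constructor
  · rintro ⟨⟨g, hg⟩, rfl⟩
    rw [MulAction.mem_stabilizer_iff] at hg
    show g • x ∈ _
    rw [← hg]
    exact Set.smul_mem_smul_set (Δ.self_mem_Res _ x)
  · intro hy
    rcases mem_Res_single.1 hy with rfl | hxy
    · exact ⟨1, one_smul _ _⟩
    · obtain ⟨a, b, hab, ha, hb⟩ := hth x i
      obtain ⟨w, hxw, hwy⟩ : ∃ w, Δ.δ x w = cs.simple i ∧ w ≠ y := by
        by_cases h : a = y
        · exact ⟨b, hb, fun h' => hab (h.trans h'.symm)⟩
        · exact ⟨a, ha, h⟩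
      have hw : w ∈ Δ.Res {i} x := mem_Res_single.2 (Or.inr hxw)
      have h1 : Δ.δ w x = cs.simple i := by rw [Δ.symm, hxw, cs.inv_simple]
      have h2 : Δ.δ w y = cs.simple i := by
        have h3 : y ∈ Δ.Res {i} w := by rwa [Δ.Res_eq_of_mem hw]
        rcases mem_Res_single.1 h3 with h | h
        · exact absurd h.symm hwy
        · exact h
      obtain ⟨u, hu, hux⟩ := S.exists_move (h1.trans h2.symm)
      exact ⟨⟨u, hst hw u hu⟩, hux⟩

/-- **a prime `r ∈ π` dividing the number of chambers of an `i`-panel** -/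
theorem exists_type_of_dvd (hth : Δ.Thick)
    (hdom : ∀ K : Subgroup G, IsPiSubgroup π K → ∃ H : Subgroup G, IsPiHall π H ∧ K ≤ H) (hpi : p ∈ π)
    {i : I} {x : C} {r : ℕ} (hr : r.Prime) (hrpi : r ∈ π) (hd : r ∣ Nat.card (Δ.Res {i} x)) :
    ∃ H : Subgroup G, IsPiHall π H ∧ ∃ z ∈ Δ.Res {i} x, S.U z ≤ H ∧ i ∈ Ty Δ H z := by
  have : Fact r.Prime := ⟨hr⟩
  set N := MulAction.stabilizer G (Δ.Res {i} x) with hN
  let P : Sylow r N := default
  set Y : Subgroup G := (P : Subgroup N).map N.subtype with hY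
  have hYN : Y ≤ N := Subgroup.map_subtype_le _
  have hYp : IsPGroup r Y := P.2.map _
  have hYpi : IsPiSubgroup π Y := pi_of_pGroup hrpi hYp
  obtain ⟨H, hH, -, z, hz, h1, h2⟩ := exists_type S hth hdom hpi (i := i) (x := x) hYpi
    (fun g hg => MulAction.mem_stabilizer_iff.1 (hYN hg)) (by
      intro z hz
      by_contra hcon
      push Not at hcon
      have h1 : (P : Subgroup N) ≤ MulAction.stabilizer N z := by
        intro g hg
        rw [MulAction.mem_stabilizer_iff]
        exact hcon g ⟨g, hg, rfl⟩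
      have h2 : (MulAction.stabilizer N z).index = Nat.card (Δ.Res {i} x) := by
        have h3 : MulAction.orbit N z = Δ.Res {i} x := by
          have := orbit_panel S hth i z
          rwa [Δ.Res_eq_of_mem hz] at this
        rw [← h3]
        exact MulAction.index_stabilizer N z
      have h3 : r ∣ (P : Subgroup N).index := by
        refine hd.trans ?_
        rw [← h2]
        exact Subgroup.index_dvd_of_le h1
      exact P.not_dvd_index h3)
  exact ⟨H, hH, z, hz, h1, h2⟩

include S in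
/-- the number of chambers of a panel -/
theorem card_panel (hth : Δ.Thick) (i : I) (x : C) : ∃ n : ℕ, Nat.card (Δ.Res {i} x) = p ^ n + 1 := by
  obtain ⟨y, -, -, hy, -⟩ := hth x i
  have h1 : Δ.Res {i} x = insert x (MulAction.orbit (S.U x) y) := by
    ext z
    rw [mem_Res_single, Set.mem_insert_iff]
    refine or_congr Iff.rfl ⟨fun hz => ?_, ?_⟩
    · obtain ⟨u, hu, huz⟩ := S.exists_move (hy.trans hz.symm)
      exact ⟨⟨u, hu⟩, huz⟩
    · rintro ⟨⟨u, hu⟩, rfl⟩
      show Δ.δ x (u • y) = _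
      conv_lhs => rw [← S.fix x u hu]
      rw [S.iso, hy]
  have h2 : x ∉ MulAction.orbit (S.U x) y := by
    rintro ⟨⟨u, hu⟩, hux⟩
    have h3 : u • y = x := hux
    have h4 : y = x := by
      apply MulAction.injective u
      show u • y = u • x
      rw [h3, S.fix x u hu]
    rw [h4, (Δ.eq_one x x).2 rfl] at hy
    have h5 := cs.length_simple i
    rw [← hy, cs.length_one] at h5
    exact absurd h5 (by norm_num)
  have hfin : (MulAction.orbit (S.U x) y).Finite := Set.finite_range _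
  have : Finite (MulAction.orbit (S.U x) y) := hfin.to_subtype
  obtain ⟨n, hn⟩ := (S.isP x).card_orbit y
  refine ⟨n, ?_⟩
  rw [h1, Nat.card_coe_set_eq, Set.ncard_insert_of_notMem h2 hfin, ← Nat.card_coe_set_eq, hn]

/-- **`p` odd and `2 ∈ π`: every `i` occurs in a type** -/
theorem exists_type_odd (hth : Δ.Thick)
    (hdom : ∀ K : Subgroup G, IsPiSubgroup π K → ∃ H : Subgroup G, IsPiHall π H ∧ K ≤ H) (hpi : p ∈ π)
    (hp2 : p ≠ 2) (h2 : 2 ∈ π) (i : I) (x : C) :
    ∃ H : Subgroup G, IsPiHall π H ∧ ∃ z ∈ Δ.Res {i} x, S.U z ≤ H ∧ i ∈ Ty Δ H z := by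
  refine exists_type_of_dvd S hth hdom hpi Nat.prime_two h2 ?_
  obtain ⟨n, hn⟩ := card_panel S hth i x
  rw [hn]
  have h3 : Odd (p ^ n) := (hp.out.odd_of_ne_two hp2).pow
  exact (h3.add_one).two_dvd

end hall

/-- **a subgroup of type `I` is the whole group** -/
theorem eq_top (hgen : ∀ K : Subgroup G, (∀ y : C, S.U y ≤ K) → K = ⊤) {H : Subgroup G} {x : C} (hx : S.U x ≤ H)
    (hT : Ty Δ H x = Set.univ) : H = ⊤ :=
  hgen H (U_le_of_univ S hx hT)

omit F in
/-- a simple group is generated by the `U y` -/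
theorem gen_of_simple [IsSimpleGroup G] (hne : ∃ y : C, S.U y ≠ ⊥) (K : Subgroup G) (hK : ∀ y : C, S.U y ≤ K) :
    K = ⊤ := by
  set N : Subgroup G := ⨆ y : C, S.U y with hN
  have hNn : N.Normal := by
    refine ⟨fun n hn g => ?_⟩
    have h1 : N ≤ N.comap (MulAut.conj g).toMonoidHom := by
      refine iSup_le fun y u hu => ?_
      rw [Subgroup.mem_comap]
      exact (le_iSup (fun y : C => S.U y) (g • y)) (S.conj_mem_U hu g)
    exact h1 hn
  have h2 : N ≤ K := iSup_le hK
  rcases hNn.eq_bot_or_eq_top with h | h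
  · obtain ⟨y, hy⟩ := hne
    exact absurd (le_bot_iff.1 (h ▸ le_iSup (fun y : C => S.U y) y)) hy
  · exact top_le_iff.1 (h ▸ h2)

/-- the groups `U y` are not trivial -/
theorem U_ne_bot (hth : Δ.Thick) (i : I) (x : C) : S.U x ≠ ⊥ := by
  intro h
  obtain ⟨y, z, hyz, hy, hz⟩ := hth x i
  obtain ⟨u, hu, huz⟩ := S.exists_move (hy.trans hz.symm)
  rw [h, mem_bot] at hu
  rw [hu, one_smul] at huz
  exact hyz huz

end Cfsg.Agent.H454.PiBS
end
end
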